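import Cfsg.Agent.Lib.CosetEnum.ONJone1.Data

/-! Generated certificate. -/

set_option autoImplicit false
set_option maxRecDepth 20000

namespace Cfsg.Lib.CosetEnum.ONJone1

theorem closed_0 : closedOK tabF tabZ tabP 108 66 4 [0, 1, 2] 66 0 = true := by decide +kernel

end Cfsg.Lib.CosetEnum.ONJone1
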