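import Cfsg.Agent.Lib.CosetEnum.Defs

/-! Generated table data. -/

set_option autoImplicit false
set_option maxRecDepth 20000

namespace Cfsg.Lib.CosetEnum.ONJone1

/-- Table data. -/
def tabC_0_0 : Tab :=
  (.node 21 (.node 10 (.node 5 (.node 2 (.node 1 (.leaf 0x40000000000000007) (.leaf 0x40000000000000008)) (.node 1 (.leaf 0x1000000000420000000000100000000005) (.node 1 (.leaf 0x10000140000200000c0000100000800005) (.leaf 0x100002c000070000200000100001400005)))) (.node 2 (.node 1 (.leaf 0x1000060000100000440000100003400005) (.leaf 0x100006c000130000500000100003c00005)) (.node 1 (.leaf 0x1000078000150000580000100004000005) (.node 1 (.leaf 0x10000a4000200000840000100006000005) (.leaf 0x10000b8000240000940000100007400005))))) (.node 5 (.node 2 (.node 1 (.leaf 0x10000bc0002600009c0000100007800005) (.leaf 0x100001c000040000080000100001c000040000080000100010c0000500000400003)) (.node 1 (.leaf 0x100004c0000e0000280000600006800012000034000090001100000500001000003) (.node 1 (.leaf 0x1000080000170000400000c0000980001d0000540000f0001140000500002400003) (.leaf 0x10000d00002c00008c000190000e8000330000ac000220001180000500004800003)))) (.node 3 (.node 1 (.leaf 0x100001800003000004000000001040000600000c000010000000000400000000004)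 (.node 1 (.leaf 0x10000280000a0001400000200001c00005) (.leaf 0x100007c0001600003c0000b0001300001f0000580000f00002c0000400002000004))) (.node 1 (.leaf 0x10000a0000280001480000200008000005) (.node 1 (.leaf 0x10000940001c0000500000e0000940001c0000500000e0001440000500002c00004) (.leaf 0x40000d0000240000500000800001000000000420001040000900011000003000004000430000000000600000000006)))))) (.node 11 (.node 5 (.node 2 (.node 1 (.leaf 0x1000064000110000300000800001000012000154000090000140000400000c00004) (.leaf 0x1000068000230001580000200004c00005)) (.node 1 (.leaf 0x40001e0000540000f00002c00007000010000470000500000e00002800050000018000440000140000800000c00006) (.node 1 (.leaf 0x10000b400024000070000310000a00001f0001200005800011c0000600005400003) (.leaf 0x10000e0000590000d4000010000b800005)))) (.node 3 (.node 1 (.leaf 0x10000b0000570001340003000009c0001d0000780005800006c0000600005000004) (.node 1 (.leaf 0x10000d00003700016c000020000b400005) (.leaf 0x40002b000088000180000400000c0000200000700013000022000118000110000300004500002c0000600002000006))) (.node 1 (.leaf 0x10000e4000320000a80002100005c00033000174000220000600000400004400004) (.node 1 (.leaf 0x10000e80003d000178000020000d000005)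 (.leaf 0x40005c0000d00002c00015c0001a0000480003700016c0002c00008c000560000480000d0001540000800003800006))))) (.node 5 (.node 2 (.node 1 (.leaf 0x10000d80004b0000c000037000180000370000c00003600012c000020000a000003) (.leaf 0x10000fc0005f00013c0003f00017c0004f00017000060000170000060000d400004)) (.node 1 (.leaf 0x1000100000400001880000200010000005) (.node 1 (.leaf 0x40002900008000017000128000250000700004700006c0004d00006800056000064000460000600000b00004400006) (.leaf 0x10000a80002a0001240006400012800054000128000640001240000800008800003)))) (.node 3 (.node 1 (.leaf 0x10000c8000650000c8000010000ac00005) (.node 1 (.leaf 0x10001000003f0000f4000390001000003f0000f400039000198000050000cc00003) (.leaf 0x10000d80002f0001380003b0000d40002d0000b8000640000a40000600008400004))) (.node 1 (.leaf 0x10001a0000610001a0000010000dc00005) (.node 1 (.leaf 0x10000f80003c0001680003b0001a40003b0000f80003c000168000030000d800003) (.leaf 0x40003e0000f0000380001640002d0000f00005a0000d40002d000090000250001500004a0000b80000900009400006)))))))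

/-- Table data. -/
def tabC_0 : Tab :=
  tabC_0_0

end Cfsg.Lib.CosetEnum.ONJone1
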