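import Cfsg.Agent.Lib.CosetEnum.Defs

/-! Generated table data. -/

set_option autoImplicit false
set_option maxRecDepth 20000

namespace Cfsg.Lib.CosetEnum.ONJone1

/-- Table data. -/
def tabF_0_0 : Tab :=
  (.node 1 (.leaf 0x1f00008000000000001e80007e10000000001d00007c10000000001c80007a00000000001b00007800000000001a00007610000000001980007400000000001900007220000000001880007010000000001800006e00000000001700006c20000000001680006a10000000001600006800000000001580006620000000001480006400000000001400006200000000001380006020000000001280005e20000000001280005c00000000001200005a00000000001180005810000000001100005600000000001080005420000000001000005210000000000f00005020000000000f00004e10000000000e80004c20000000000e80004a10000000000d00004810000000000c80004600000000000c00004420000000000c00004210000000000b80004000000000000b00003e20000000000b00003c00000000000a80003a00000000000a00003820000000000980003610000000000900003400000000000880003220000000000880003000000000000800002e20000000000800002c10000000000780002a20000000000780002810000000000700002600000000000680002420000000000680002210000000000600002000000000000580001e00000000000500001c10000000000480001a00000000000400001820000000000380001610000000000300001400000000000280001220000000000280001010000000000200000e00000000000180000c20000000000180000a0000000000010000082000000000010000061000000000008000040000000000000000022) (.leaf 0x1e80007e20000000001f80007e00000000001e00007810000000001e00006e20000000002080008200000000001980006610000000001580005610000000001780005400000000002080008220000000002000008020000000001b80006e10000000001c00007000000000001f00007620000000001a00007420000000001180005820000000001c00006a20000000001880005a20000000001b00007210000000001900005c10000000000e00003e00000000001200003620000000000980003420000000000500001c20000000001300004c00000000001480005220000000001000004020000000000580001620000000000380000e20000000001d80006a00000000001380004200000000000d80002800000000000400001000000000001400006010000000001300005e10000000001100005410000000000b80003e10000000000a80003810000000000900003210000000000480001810000000000200000c1000000000008000021000000000000000001000000000000000000000000000200000821))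

/-- Table data. -/
def tabF_0 : Tab :=
  tabF_0_0

end Cfsg.Lib.CosetEnum.ONJone1
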